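import Cfsg.Agent.Lib.Goldschmidt.Facts.Group
import Cfsg.Agent.Lib.Goldschmidt.ThreePrime.SzFacts

/-!
# The facts used about the Suzuki groups, in the common form (owner: helper72)

* `sylowFacts_of_square` : order `q²` and every central element a square
* `groupFacts_of_szFacts` : `GroupFacts` from `SzFacts`
* `groupFacts_of_isoSuzuki` : for a group isomorphic to a Suzuki group
-/

set_option autoImplicit false
set_option linter.unusedSectionVars false
set_option linter.style.haveILetI false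

namespace Cfsg.Agent.Goldschmidt.Facts

open Subgroup
open scoped commutatorElement

universe u

variable {P : Type u} [Group P] [Finite P] {q : ℕ}

/-- Elements with the same square lie in the same coset of the centre. -/
theorem coset_of_sq (hcard : Nat.card P = q ^ 2) (hz : Nat.card ↥(center P) = q)
    (homega : ∀ x : P, x * x = 1 ↔ x ∈ center P)
    (hsq : ∀ x : P, x * x ∈ center P) (hsurj : ∀ z ∈ center P, ∃ x : P, x * x = z) {x y : P}
    (h : x * x = y * y) : x⁻¹ * y ∈ center P := by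
  classical
  have hq : 0 < q := hz ▸ Nat.card_pos
  have hwell : ∀ (x : P), ∀ c ∈ center P, x * c * (x * c) = x * x := fun x c hc => by
    have h1 : c * c = 1 := (homega c).2 hc
    calc x * c * (x * c) = x * (c * x) * c := by group
      _ = x * (x * c) * c := by rw [mem_center_iff.1 hc x]
      _ = x * x * (c * c) := by group
      _ = x * x := by rw [h1, mul_one]
  let f : P ⧸ center P → ↥(center P) := Quotient.lift (fun x => ⟨x * x, hsq x⟩) fun a b hab =>
    Subtype.ext (by
      have h1 := hwell a _ (QuotientGroup.leftRel_apply.1 hab)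
      rw [mul_inv_cancel_left] at h1
      exact h1.symm)
  have hidx : Nat.card (P ⧸ center P) = q := by
    have h1 := (center P).card_mul_index
    rw [hz, hcard, pow_two] at h1
    exact Nat.eq_of_mul_eq_mul_left hq h1
  have hf : Function.Bijective f := (Nat.bijective_iff_surjective_and_card f).2
    ⟨fun z => by
      obtain ⟨x, hx⟩ := hsurj z.1 z.2
      exact ⟨(x : P ⧸ center P), Subtype.ext hx⟩, by rw [hidx, hz]⟩
  exact QuotientGroup.eq.1 (hf.1 (Subtype.ext h : f (x : P ⧸ center P) = f (y : P ⧸ center P)))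

/-- The automorphism properties when the squaring map is onto the centre and `|P| = q²`. -/
theorem sylowFacts_of_square (hpow : ∃ n, 2 ≤ n ∧ q = 2 ^ n) (hcard : Nat.card P = q ^ 2)
    (homega : ∀ x : P, x * x = 1 ↔ x ∈ center P) (hz : Nat.card ↥(center P) = q)
    (hsq : ∀ x : P, x * x ∈ center P) (hcomm : ∀ x y : P, ⁅x, y⁆ ∈ center P)
    (hsurj : ∀ z ∈ center P, ∃ x : P, x * x = z)
    (hhalf : ∀ u : P, u ∉ center P → q ≤ 2 * Nat.card ↥{c : P | ∃ r : P, c = ⁅r, u⁆}) :
    SylowFacts P q := by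
  have hmove : ∀ σ : MulAut P, (∀ z ∈ center P, σ z = z) → ∀ x : P, x⁻¹ * σ x ∈ center P :=
    fun σ hσ x => coset_of_sq hcard hz homega hsq hsurj (by rw [← map_mul, hσ _ (hsq x)])
  refine ⟨hpow, Or.inl hcard, homega, hz, hsq, hcomm, hsurj, hhalf,
    fun σ ho hσ _ _ _ => MulEquiv.ext fun x => ?_, fun σ _ hσ => Or.inl (hmove σ hσ)⟩
  have h2 : ∀ k : ℕ, (σ ^ k) x = x * (x⁻¹ * σ x) ^ k := fun k => by
    induction k with
    | zero => simp
    | succ k ih =>
      rw [pow_succ', MulAut.mul_apply, ih, map_mul, map_pow, hσ _ (hmove σ hσ x), pow_succ',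
        ← mul_assoc x, mul_inv_cancel_left]
  have h3 : (x⁻¹ * σ x) ^ orderOf σ = 1 := by
    have := h2 (orderOf σ)
    rw [pow_orderOf_eq_one] at this
    exact mul_left_cancel (a := x) (by rw [← this, mul_one]; rfl)
  have h4 : (x⁻¹ * σ x) ^ 2 = 1 := by
    rw [pow_two]; exact (homega _).2 (hmove σ hσ x)
  obtain ⟨j, hj⟩ := ho
  rw [hj, pow_succ, pow_mul, h4, one_pow, one_mul] at h3
  exact (eq_of_inv_mul_eq_one h3).symm

variable {L : Type u} [Group L] [Finite L]

/-- `GroupFacts` from `SzFacts`. -/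
theorem groupFacts_of_szFacts (h : ThreePrime.SzFacts L q) : GroupFacts L q := by
  haveI : Fact (Nat.Prime 2) := ⟨Nat.prime_two⟩
  obtain ⟨k, hk, hq⟩ := h.pow
  have hq2 : 2 ^ 3 ≤ q := hq ▸ Nat.pow_le_pow_right (by norm_num) (by omega)
  have hC : ∀ (Q : Sylow 2 L) (x : ↥(Q : Subgroup L)),
      x ∈ center ↥(Q : Subgroup L) ↔ (x : L) ∈ ThreePrime.centre (Q : Subgroup L) := fun Q x => by
    rw [mem_center_iff, mem_inf, mem_centralizer_iff]
    exact ⟨fun hh => ⟨x.2, fun g hg => congrArg Subtype.val (hh ⟨g, hg⟩)⟩,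
      fun hh g => Subtype.ext (hh.2 g g.2)⟩
  have hQle : ∀ (Q : Sylow 2 L) (x : L), x ∈ Q → x * x = 1 →
      (Q : Subgroup L) ≤ centralizer ({x} : Set L) := fun Q x hx hxx z hz =>
    mem_centralizer_singleton_iff.2 ((mem_inf.1 ((h.omega Q x hx).1 hxx)).2 z hz)
  have hord : ∀ x : L, x ≠ 1 → x * x = 1 → orderOf x = 2 := fun x hx1 hxx =>
    orderOf_eq_prime (by rw [pow_two, hxx]) hx1
  refine ⟨h.simple, h.center, fun Q => ?_, fun x hx => ?_, fun Q Q' x hx1 hxx hxQ hxQ' => ?_,
    fun Q x hx y hy hx1 hxx hy1 hyy => ?_, fun Q α ho hα => h.odd_fix Q α ho fun z hz => hα z hz.1⟩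
  · have hcz : Nat.card ↥(center ↥(Q : Subgroup L)) = q := by
      rw [← h.card_centre Q]
      exact Nat.card_congr
        { toFun := fun x => ⟨x.1.1, (hC Q x.1).1 x.2⟩
          invFun := fun x => ⟨⟨x.1, x.2.1⟩, (hC Q ⟨x.1, x.2.1⟩).2 x.2⟩
          left_inv := fun _ => rfl
          right_inv := fun _ => rfl }
    have homega : ∀ x : ↥(Q : Subgroup L), x * x = 1 ↔ x ∈ center ↥(Q : Subgroup L) := fun x => by
      rw [hC, ← h.omega Q x x.2]
      exact ⟨fun e => congrArg Subtype.val e, fun e => Subtype.ext e⟩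
    refine sylowFacts_of_square ⟨2 * k + 1, by omega, hq⟩ (h.card_sylow Q) homega hcz
      (fun x => (hC Q _).2 (h.sq Q x x.2)) (fun x y => (hC Q _).2 (h.comm Q x x.2 y y.2))
      (fun z hz => ?_) fun u hu => ?_
    · by_cases hz1 : z = 1
      · exact ⟨1, by rw [hz1, mul_one]⟩
      obtain ⟨x, hxc⟩ : ∃ x : ↥(Q : Subgroup L), x ∉ center ↥(Q : Subgroup L) := by
        by_contra! hall
        rw [show center ↥(Q : Subgroup L) = ⊤ from eq_top_iff.2 fun x _ => hall x, card_top,
          h.card_sylow Q, pow_two] at hcz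
        nlinarith
      obtain ⟨t, ht, -, htr, -⟩ := h.torus Q
      have hne : (x : L) * x ≠ 1 := fun e => hxc ((homega x).1 (Subtype.ext e))
      obtain ⟨i, hi⟩ := htr _ (h.sq Q x x.2) _ ((hC Q z).1 hz) hne fun e => hz1 (Subtype.ext e)
      refine ⟨⟨t ^ i * x * (t ^ i)⁻¹, (mem_normalizer_iff.1 (pow_mem ht i) _).1 x.2⟩,
        Subtype.ext ?_⟩
      show t ^ i * x * (t ^ i)⁻¹ * (t ^ i * x * (t ^ i)⁻¹) = (z : L)
      rw [← hi]
      group
    · refine (h.comm_half Q u u.2 fun hh => hu ((hC Q u).2 hh)).trans (le_of_eq ?_)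
      congr 1
      exact Nat.card_congr
        { toFun := fun c => ⟨⟨c.1, by
            obtain ⟨r, hr, he⟩ := c.2
            rw [he, commutatorElement_def]
            exact mul_mem (mul_mem (mul_mem hr u.2) (inv_mem hr)) (inv_mem u.2)⟩, by
            obtain ⟨r, hr, he⟩ := c.2
            exact ⟨⟨r, hr⟩, Subtype.ext he⟩⟩
          invFun := fun c => ⟨c.1.1, by
            obtain ⟨r, he⟩ := c.2
            exact ⟨r.1, r.2, congrArg Subtype.val he⟩⟩
          left_inv := fun _ => rfl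
          right_inv := fun _ => rfl }
  · obtain ⟨Q, hQ⟩ := h.cent x hx
    exact ⟨Q, hQ.ge, hQ.le.trans le_normalizer⟩
  · obtain ⟨R, hR⟩ := h.cent x (hord x hx1 hxx)
    have e1 : R = Q := Sylow.ext (Q.is_maximal' R.2 ((hQle Q x hxQ hxx).trans hR.le))
    have e2 : R = Q' := Sylow.ext (Q'.is_maximal' R.2 ((hQle Q' x hxQ' hxx).trans hR.le))
    exact e1.symm.trans e2
  · obtain ⟨t, ht, hto, htr, -⟩ := h.torus Q
    obtain ⟨i, hi⟩ := htr x ((h.omega Q x hx).1 hxx) y ((h.omega Q y hy).1 hyy) hx1 hy1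
    refine ⟨t ^ i, pow_mem ht i, Odd.of_dvd_nat ?_ (hto ▸ orderOf_pow_dvd i), hi⟩
    rw [hq]
    exact Nat.Even.sub_odd (Nat.one_le_two_pow) ((Nat.even_pow' (by omega)).2 even_two) odd_one

/-- The facts for a group isomorphic to a Suzuki group. -/
theorem groupFacts_of_isoSuzuki (h : Cfsg.Lie.IsoSuzuki L) : ∃ q, GroupFacts L q := by
  obtain ⟨q, hq⟩ := ThreePrime.szFacts h
  exact ⟨q, groupFacts_of_szFacts hq⟩

end Cfsg.Agent.Goldschmidt.Facts
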