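import Cfsg.Agent.Lib.Goldschmidt.Facts.Sylow
import Cfsg.Agent.Lib.Unitary.SylowThreeAut

/-!
# The Sylow 2-subgroup of `PSU₃(q)`, `q = 2 ^ n` (owner: helper72)

* `comm_full` : the commutators with an element outside the centre fill the centre
* `sylowFacts_sylThree` : `SylowFacts` for the model `Unitary.sylThree`
-/

set_option autoImplicit false

namespace Cfsg.Agent.Goldschmidt.Facts

open Subgroup Cfsg.Agent.Unitary
open scoped commutatorElement

variable {F : Type*} [Field F] [Fintype F] {q : ℕ} {hF : Fintype.card F = q ^ 2}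
  {h2 : (2 : F) = 0}

theorem coordA_comm (g g' : sylThree hF h2) : coordA ⁅g, g'⁆ = 0 := by
  have e : ⁅g, g'⁆ * (g' * g) = g * g' := by rw [commutatorElement_def]; group
  have h := congrArg coordA e
  rw [(coord_mul ⁅g, g'⁆ (g' * g)).1, (coord_mul g' g).1, (coord_mul g g').1] at h
  linear_combination h

theorem coordB_comm (g g' : sylThree hF h2) :
    coordB ⁅g, g'⁆ = coordA g ^ q * coordA g' + coordA g' ^ q * coordA g := by
  have e : ⁅g, g'⁆ * (g' * g) = g * g' := by rw [commutatorElement_def]; group
  have h := congrArg coordB e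
  rw [(coord_mul ⁅g, g'⁆ (g' * g)).2, (coord_mul g' g).2, (coord_mul g g').2, coordA_comm,
    zero_pow_q hF] at h
  linear_combination h - coordA g' ^ q * coordA g * h2

/-- Commutators with an element outside the centre fill the centre. -/
theorem comm_full {u : sylThree hF h2} (hu : u ∉ center (sylThree hF h2)) {z : sylThree hF h2}
    (hz : z ∈ center (sylThree hF h2)) : ∃ r : sylThree hF h2, z = ⁅r, u⁆ := by
  have ha : coordA u ≠ 0 := fun h => hu ((Unitary.mem_center_iff u).2 h)
  have hz0 := (Unitary.mem_center_iff z).1 hz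
  obtain ⟨v, hv⟩ := exists_trace_eq hF (fixed_coordB hz0)
  refine ⟨liftA ((v / coordA u) ^ q), ext' (by rw [hz0, coordA_comm]) ?_⟩
  rw [coordB_comm, coordA_liftA, pow_q_pow_q hF, ← mul_pow, mul_div_cancel₀ _ ha, ← hv,
    div_mul_cancel₀ _ ha]

omit [Fintype F] in
theorem eq_one_of_sq_eq_one (h2 : (2 : F) = 0) {x : F} (hx : x ^ 2 = 1) : x = 1 := by
  have h : (x - 1) ^ 2 = 0 := by linear_combination hx + (1 - x) * h2
  exact sub_eq_zero.1 (pow_eq_zero_iff two_ne_zero |>.1 h)

/-- An automorphism fixing the centre multiplies the first coordinate by a norm one scalar,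
possibly after conjugating it. -/
theorem perm_of_fix_center {n : ℕ} (hn : 1 ≤ n) (hq : q = 2 ^ n) {σ : MulAut (sylThree hF h2)}
    (hz : ∀ z ∈ center (sylThree hF h2), σ z = z) :
    ∃ l : F, l ^ (q + 1) = 1 ∧ ((∀ a, perm σ a = l * a) ∨ (∀ a, perm σ a = l * a ^ q)) := by
  obtain ⟨l, -, i, hi, hp⟩ := perm_semilinear hn hq σ
  have hN : ∀ a, perm σ a ^ (q + 1) = a ^ (q + 1) := fun a => by
    have h := congrArg coordB (hz _ ((Unitary.mem_center_iff _).2 (coord_sq (liftA a)).1))
    rw [map_mul, (coord_sq _).2, (coord_sq _).2, ← perm_apply, coordA_liftA] at h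
    exact h
  have hl : l ^ (q + 1) = 1 := by
    have h := hN 1
    rwa [hp, one_pow, one_pow, mul_one] at h
  refine ⟨l, hl, ?_⟩
  have hfix : ∀ c : F, c ^ q = c → c ^ 2 ^ i = c := fun c hc => by
    obtain ⟨a, ha⟩ := exists_norm_eq hF hc
    have h := hN a
    rw [hp, mul_pow, hl, one_mul, ← pow_mul, mul_comm (2 ^ i), pow_mul, ha] at h
    exact h
  classical
  let Kf := fixedField hF
  haveI : Fintype Kf := Fintype.ofFinite _
  have h2K : (2 : Kf) = 0 := Subtype.ext (by push_cast; exact h2)
  have hKcard : Fintype.card Kf = 2 ^ n := by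
    rw [← Nat.card_eq_fintype_card, ← hq]
    exact card_fixed hF
  rcases lt_or_ge i n with hlt | hge
  · have hi0 : i = 0 := frobenius_pow_injective hKcard h2K hlt (by omega) fun x => Subtype.ext (by
      push_cast
      simpa using hfix _ ((mem_fixedField hF).1 x.2))
    exact Or.inl fun a => by rw [hp, hi0, pow_zero, pow_one]
  · have hi0 : i - n = 0 := frobenius_pow_injective hKcard h2K (by omega) (by omega) fun x =>
      Subtype.ext (by
        push_cast
        have hx := (mem_fixedField hF).1 x.2
        have h := hfix _ hx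
        rw [show i = n + (i - n) by omega, pow_add, pow_mul, ← hq, hx] at h
        simpa using h)
    exact Or.inr fun a => by rw [hp, show i = n by omega, ← hq]

/-- The facts for the model. -/
theorem sylowFacts_sylThree {n : ℕ} (hn : 2 ≤ n) (hq : q = 2 ^ n) :
    SylowFacts (sylThree hF h2) q := by
  classical
  refine ⟨⟨n, hn, hq⟩, Or.inr card_sylThree, fun x => ?_, card_center, fun x => ?_, fun x y => ?_,
    fun z hz => ?_, fun u hu => ?_, fun σ ho hz x hx hxf => ?_, fun σ hk hz => ?_⟩
  · rw [Unitary.sq_eq_one_iff, Unitary.mem_center_iff]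
  · exact (Unitary.mem_center_iff _).2 (coord_sq x).1
  · exact (Unitary.mem_center_iff _).2 (coordA_comm x y)
  · have hz0 := (Unitary.mem_center_iff z).1 hz
    obtain ⟨a, ha⟩ := exists_norm_eq hF (fixed_coordB hz0)
    exact ⟨liftA a, ext' ((coord_sq _).1.trans hz0.symm)
      (by rw [(coord_sq _).2, coordA_liftA, ha])⟩
  · calc q = Nat.card ↥(center (sylThree hF h2)) := card_center.symm
      _ ≤ Nat.card ↥{c : sylThree hF h2 | ∃ r : sylThree hF h2, c = ⁅r, u⁆} :=
          Nat.card_mono (Set.toFinite _) fun z hz => comm_full hu hz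
      _ ≤ _ := Nat.le_mul_of_pos_left _ two_pos
  · obtain ⟨l, hl, h | h⟩ := perm_of_fix_center (by omega) hq hz
    · have ha : coordA x ≠ 0 := fun h0 => hx ((Unitary.mem_center_iff x).2 h0)
      have h1 := h (coordA x)
      rw [perm_apply, hxf] at h1
      have hl1 : l = 1 := mul_right_cancel₀ ha (by rw [one_mul]; exact h1.symm)
      have hp : perm σ = 1 := Equiv.ext fun a => by rw [h, hl1, one_mul]; rfl
      exact (pow_one σ).symm.trans (pow_eq_one_iff_modEq.2 (by
        rw [Nat.modEq_zero_iff_dvd]
        refine (Nat.Coprime.dvd_of_dvd_mul_right (Nat.coprime_two_right.2 ho) ?_)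
        rw [one_mul]
        exact orderOf_dvd_of_pow_eq_one (by rw [pow_two]; exact ker_sq hp)))
    · have hp2 : perm σ * perm σ = 1 := Equiv.ext fun a => by
        show perm σ (perm σ a) = a
        rw [h, h, mul_pow, pow_q_pow_q hF, ← mul_assoc, ← pow_succ', hl, one_mul]
      have hp : perm σ = 1 := by
        rw [← orderOf_eq_one_iff]
        refine Nat.eq_one_of_dvd_coprimes (Nat.coprime_two_right.2 ho) (orderOf_map_dvd perm σ) ?_
        exact orderOf_dvd_of_pow_eq_one (by rw [pow_two]; exact hp2)
      have hs : σ ^ 2 = 1 := by rw [pow_two]; exact ker_sq hp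
      rw [← orderOf_eq_one_iff]
      exact Nat.eq_one_of_dvd_coprimes (Nat.coprime_two_right.2 ho) dvd_rfl
        (orderOf_dvd_of_pow_eq_one hs)
  · obtain ⟨k, hk⟩ := hk
    obtain ⟨l, hl, h⟩ := perm_of_fix_center (by omega) hq hz
    have hleft : perm σ = 1 → ∀ x, x⁻¹ * σ x ∈ center (sylThree hF h2) := fun hp x =>
      inv_mul_mem_center (((perm_eq_one_iff σ).1 hp x).symm)
    by_cases hp : perm σ = 1
    · exact Or.inl (hleft hp)
    rcases h with h | h
    · exfalso
      apply hp
      have hpow : ∀ j : ℕ, ∀ a, (perm σ ^ j) a = l ^ j * a := fun j => by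
        induction j with
        | zero => intro a; simp
        | succ j ih => intro a; rw [pow_succ', Equiv.Perm.mul_apply, ih, h, pow_succ']; ring
      have h1 := hpow (2 ^ k) 1
      rw [← map_pow, hk, map_one perm] at h1
      simp only [Equiv.Perm.coe_one, id_eq, mul_one] at h1
      have hroot : ∀ (j : ℕ) (x : F), x ^ 2 ^ j = 1 → x = 1 := by
        intro j
        induction j with
        | zero => intro x hx; simpa using hx
        | succ j ih =>
          intro x hx
          rw [pow_succ', pow_mul] at hx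
          exact eq_one_of_sq_eq_one h2 (ih _ hx)
      exact Equiv.ext fun a => by rw [h, hroot k l h1.symm, one_mul]; rfl
    · refine Or.inr fun z hzc => ?_
      obtain ⟨a₀, ha₀⟩ : ∃ a, a + l * a ^ q ≠ 0 := by
        by_contra! hall
        refine hp (Equiv.ext fun a => ?_)
        rw [h]
        show l * a ^ q = a
        linear_combination hall a - a * h2
      set μ := a₀ + l * a₀ ^ q with hμ
      have hz0 := (Unitary.mem_center_iff z).1 hzc
      set c := coordB z with hc
      have hcq : c ^ q = c := fixed_coordB hz0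
      have hμ0 : μ ^ (q + 1) ≠ 0 := pow_ne_zero _ ha₀
      haveI : CharP F 2 := CharTwo.of_one_ne_zero_of_two_eq_zero one_ne_zero h2
      haveI : Fact (Nat.Prime 2) := ⟨Nat.prime_two⟩
      obtain ⟨t, ht⟩ := (bijective_frobenius F 2).2 (c / μ ^ (q + 1))
      rw [frobenius_def] at ht
      have htq : t ^ q = t := by
        have h1 : (t ^ q) ^ 2 = t ^ 2 := by
          rw [← pow_mul, mul_comm, pow_mul, ht, div_pow, hcq, pow_q_succ_fixed hF]
        have h4 : (t ^ q - t) ^ 2 = 0 := by linear_combination h1 + (t ^ 2 - t ^ q * t) * h2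
        exact sub_eq_zero.1 (pow_eq_zero_iff two_ne_zero |>.1 h4)
      set g := liftA (hF := hF) (h2 := h2) (t * a₀) with hg
      have hgA : coordA (g⁻¹ * σ g) = t * μ := by
        have hinv : coordA g⁻¹ = coordA g := by
          have h1 := (coord_mul g g⁻¹).1
          rw [mul_inv_cancel, coord_one.1] at h1
          linear_combination -h1 - coordA g * h2
        rw [(coord_mul _ _).1, hinv, ← perm_apply, h, hg, coordA_liftA, mul_pow, htq, hμ]
        ring
      refine ⟨g⁻¹ * σ g, subset_closure ⟨g, rfl⟩, ext' ((coord_sq _).1.trans hz0.symm) ?_⟩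
      rw [(coord_sq _).2, hgA, mul_pow, pow_succ t q, htq, ← pow_two, ht, div_mul_cancel₀ _ hμ0]

end Cfsg.Agent.Goldschmidt.Facts
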