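import Cfsg.Agent.Lib.Goldschmidt.Facts.Group
import Cfsg.Agent.Lib.Goldschmidt.Facts.UnitarySylow
import Cfsg.Agent.Lib.SuzukiRankOne.UnitaryModel

/-!
# The facts used about `PSU₃(2ⁿ)`, `n ≥ 2` (owner: helper72)

* `groupFacts_psu` : `GroupFacts` for `PSU₃(2ⁿ)`
* `groupFacts_of_psu` : for a group isomorphic to it
-/

set_option autoImplicit false
set_option linter.style.haveILetI false

namespace Cfsg.Agent.Goldschmidt.Facts

variable {F : Type} [Field F] [Fintype F] {n : ℕ}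

/-- The facts for `PSU₃(2ⁿ)`. -/
theorem groupFacts_psu (hn : 2 ≤ n) (hF : Fintype.card F = (2 ^ n) ^ 2) :
    GroupFacts (Cfsg.PSU 3 F (2 ^ n)) (2 ^ n) := by
  classical
  have h2 : (2 : F) = 0 := by
    have h0 : ((2 : ℕ) : F) ^ (n * 2) = 0 := by
      rw [← Nat.cast_pow, pow_mul, ← hF]; exact FiniteField.cast_card_eq_zero F
    exact_mod_cast eq_zero_of_pow_eq_zero h0
  haveI hs : IsSimpleGroup (Cfsg.PSU 3 F (2 ^ n)) := Unitary.isSimpleGroup_PSU hF (Or.inr ⟨rfl, by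
    have : 2 ^ 2 ≤ 2 ^ n := Nat.pow_le_pow_right (by norm_num) hn
    omega⟩)
  obtain ⟨Ω, _, _, a, t, Q, h, hinv, hQ, hna, -, -⟩ := SuzukiRankOne.unitaryModel F n hn hF
  refine of_setup h hinv hQ hs ?_ fun P => ?_
  · refine (inferInstance : (Subgroup.center (Cfsg.PSU 3 F (2 ^ n))).Normal).eq_bot_or_eq_top.resolve_right
      fun htop => hna ⟨⟨fun x y => Subtype.ext ?_⟩⟩
    exact Subgroup.mem_center_iff.1 (htop.ge (Subgroup.mem_top y.1)) x.1
  · obtain ⟨e⟩ := Unitary.exists_equiv (by omega) rfl hF h2 P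
    exact (sylowFacts_sylThree hn rfl).congr e

/-- The facts for a group isomorphic to `PSU₃(2ⁿ)`. -/
theorem groupFacts_of_psu {L : Type*} [Group L] (hn : 2 ≤ n) (hF : Fintype.card F = (2 ^ n) ^ 2)
    (e : L ≃* Cfsg.PSU 3 F (2 ^ n)) : GroupFacts L (2 ^ n) :=
  (groupFacts_psu hn hF).congr e.symm

end Cfsg.Agent.Goldschmidt.Facts
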