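import Cfsg.Agent.Lib.Goldschmidt.Facts.Sylow
import Cfsg.Agent.Lib.RankOne.SetupTwoRank

/-!
# The facts used about a Bender group (owner: helper72)

* `GroupFacts L q` : centralisers of involutions, fusion in a Sylow 2-subgroup and automorphisms
* `of_setup` : from a rank one set-up with Sylow subgroups satisfying `SylowFacts`
* `GroupFacts.odd_fix` : an odd automorphism fixing the centre and one more element of a Sylow
  2-subgroup is trivial
* `GroupFacts.congr` : transport along an isomorphism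
-/

set_option autoImplicit false
set_option linter.unusedSectionVars false
set_option linter.style.haveILetI false

namespace Cfsg.Agent.Goldschmidt.Facts

open Subgroup MulAction
open scoped Pointwise

universe u v

/-- What is used about `Sz(q)` and `PSU₃(q)`. -/
structure GroupFacts (L : Type u) [Group L] (q : ℕ) : Prop where
  simple : IsSimpleGroup L
  center : Subgroup.center L = ⊥
  sylow : ∀ Q : Sylow 2 L, SylowFacts ↥(Q : Subgroup L) q
  cent : ∀ x : L, orderOf x = 2 → ∃ Q : Sylow 2 L,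
    (Q : Subgroup L) ≤ centralizer ({x} : Set L) ∧
      centralizer ({x} : Set L) ≤ normalizer ((Q : Subgroup L) : Set L)
  uniq : ∀ (Q Q' : Sylow 2 L) (x : L), x ≠ 1 → x * x = 1 → x ∈ Q → x ∈ Q' → Q = Q'
  trans : ∀ (Q : Sylow 2 L), ∀ x ∈ Q, ∀ y ∈ Q, x ≠ 1 → x * x = 1 → y ≠ 1 → y * y = 1 →
    ∃ k ∈ normalizer ((Q : Subgroup L) : Set L), Odd (orderOf k) ∧ k * x * k⁻¹ = y
  aut_eq_one : ∀ (Q : Sylow 2 L) (α : MulAut L), Odd (orderOf α) → (∀ x ∈ Q, α x = x) → α = 1

section setup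

variable {L : Type u} {Ω : Type v} [Group L] [Finite L] [MulAction L Ω] [FaithfulSMul L Ω] {a : Ω}
  {t : L} {Q : Subgroup L}

/-- The kernel of a rank one set-up is a Sylow 2-subgroup when it is a 2-group. -/
theorem exists_sylow_eq (h : Cfsg.IsRankOneSetup L Ω a t Q) (hQ : IsPGroup 2 ↥Q) :
    ∃ P : Sylow 2 L, (P : Subgroup L) = Q := by
  obtain ⟨P, hP⟩ := RankOne.Setup.exists_sylow_two_le h
  exact ⟨P, (P.is_maximal' hQ hP).symm⟩

/-- Elements normalising the kernel fix the point. -/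
theorem fix_of_normalizes (h : Cfsg.IsRankOneSetup L Ω a t Q) {g : L}
    (hg : g ∈ normalizer (Q : Set L)) : g • a = a := by
  by_contra hne
  obtain ⟨x, hx, hx1⟩ := RankOne.Setup.exists_ne_one h
  refine hx1 (RankOne.Setup.eq_one_of_fix h hx hne ?_)
  have h1 : g⁻¹ * x * g ∈ Q := by
    have := (mem_normalizer_iff.1 (inv_mem hg) x).1 hx
    rwa [inv_inv] at this
  have h2 : (g⁻¹ * x * g) • a = a := h.le h1
  rw [mul_smul, mul_smul] at h2
  exact inv_smul_eq_iff.1 h2

/-- A Sylow 2-subgroup fixes exactly one point, and any of its involutions only that point. -/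
theorem exists_conj_kernel (h : Cfsg.IsRankOneSetup L Ω a t Q) (hQ : IsPGroup 2 ↥Q) (P : Sylow 2 L) :
    ∃ g : L, ∀ x : L, x ∈ P ↔ g⁻¹ * x * g ∈ Q := by
  haveI : Fact (Nat.Prime 2) := ⟨Nat.prime_two⟩
  obtain ⟨P₀, hP₀⟩ := exists_sylow_eq h hQ
  obtain ⟨g, hg⟩ := MulAction.exists_smul_eq L P₀ P
  refine ⟨g, fun x => ?_⟩
  rw [← hg, ← hP₀]
  show x ∈ MulAut.conj g • (P₀ : Subgroup L) ↔ _
  rw [Subgroup.mem_pointwise_smul_iff_inv_smul_mem]
  simp [MulAut.smul_def, mul_assoc]

/-- An automorphism of odd order centralising the kernel is trivial. -/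
theorem aut_eq_one_of_setup (h : Cfsg.IsRankOneSetup L Ω a t Q) (hQ : IsPGroup 2 ↥Q) {α : MulAut L}
    (ho : Odd (orderOf α)) (hfix : ∀ x ∈ Q, α x = x) : α = 1 := by
  haveI : Fact (Nat.Prime 2) := ⟨Nat.prime_two⟩
  have hstab : ∀ g : L, g • a = a → α g • a = a := fun g hg => by
    refine fix_of_normalizes h (mem_normalizer_iff.2 fun x => ?_)
    have hgn : g ∈ normalizer (Q : Set L) := by
      rw [mem_normalizer_iff]
      exact fun y => ⟨h.conj_mem g hg y,
        fun hy => by simpa [mul_assoc] using RankOne.Setup.conj_mem_inv h hg hy⟩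
    refine ⟨fun hx => ?_, fun hx => ?_⟩
    · have h1 := (mem_normalizer_iff.1 hgn x).1 hx
      have e : α g * x * (α g)⁻¹ = g * x * g⁻¹ := by
        conv_lhs => rw [← hfix x hx]
        rw [← map_inv, ← map_mul, ← map_mul, hfix _ h1]
      rw [e]
      exact h1
    · have h1 : g⁻¹ * (α g * x * (α g)⁻¹) * g ∈ Q := by
        have := (mem_normalizer_iff.1 (inv_mem hgn) _).1 hx
        rwa [inv_inv] at this
      set y := g⁻¹ * (α g * x * (α g)⁻¹) * g with hy
      have e : α g * x * (α g)⁻¹ = g * y * g⁻¹ := by rw [hy]; group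
      have e2 : α g * y * (α g)⁻¹ = g * y * g⁻¹ := by
        conv_lhs => rw [← hfix y h1]
        rw [← map_inv, ← map_mul, ← map_mul, hfix _ (e ▸ hx)]
      have : x = y := by
        have := e.trans e2.symm
        exact mul_left_cancel (mul_right_cancel this)
      rw [this]
      exact h1
  choose rep hrep using RankOne.Setup.exists_smul_a h
  let f : Ω → Ω := fun p => α (rep p) • a
  have hf : ∀ g : L, f (g • a) = α g • a := fun g => by
    show α (rep (g • a)) • a = α g • a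
    have h1 : (g⁻¹ * rep (g • a)) • a = a := by rw [mul_smul, hrep, inv_smul_smul]
    have h2 := hstab _ h1
    rw [map_mul, mul_smul, map_inv, inv_smul_eq_iff] at h2
    exact h2
  have hf' : ∀ (g : L) (p : Ω), f (g • p) = α g • f p := fun g p => by
    rw [← hrep p, ← mul_smul, hf, hf, map_mul, mul_smul]
  have hiter : ∀ (k : ℕ) (g : L), f^[k] (g • a) = (α ^ k) g • a := fun k => by
    induction k with
    | zero => intro g; simp
    | succ k ih => intro g; rw [Function.iterate_succ_apply', ih, hf, pow_succ']; rfl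
  have hid : ∀ p, f^[orderOf α] p = p := fun p => by
    obtain ⟨g, rfl⟩ := RankOne.Setup.exists_smul_a h p
    rw [hiter, pow_orderOf_eq_one]
    rfl
  have hinj : Function.Injective f := by
    intro p p' e
    obtain ⟨j, hj⟩ := ho
    rw [← hid p, ← hid p', hj, Function.iterate_add_apply f (2 * j) 1, Function.iterate_add_apply f (2 * j) 1,
      Function.iterate_one, e]
  have hfa : f a = a := by
    have h1 := hf 1
    rwa [one_smul, map_one, one_smul] at h1
  obtain ⟨p, hp, hpne⟩ : ∃ p, f p = p ∧ p ≠ a := by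
    refine ⟨t • a, ?_, RankOne.Setup.t_smul_ne h⟩
    have hne : f (t • a) ≠ a := fun e1 =>
      RankOne.Setup.t_smul_ne h (hinj (e1.trans hfa.symm))
    obtain ⟨⟨y, hy⟩, hyb, -⟩ := RankOne.Setup.regular h (RankOne.Setup.t_smul_ne h) hne
    have hk : ∀ k : ℕ, f^[k] (t • a) = y ^ k • (t • a) := fun k => by
      induction k with
      | zero => simp
      | succ k ih =>
        rw [Function.iterate_succ_apply', ih, hf', hfix _ (pow_mem hy k), ← hyb, ← mul_smul, ← pow_succ]
    have h1 : y ^ orderOf α = 1 := RankOne.Setup.eq_one_of_fix h (pow_mem hy _)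
      (RankOne.Setup.t_smul_ne h) ((hk _).symm.trans (hid _))
    obtain ⟨n, hn⟩ := IsPGroup.iff_card.1 hQ
    have h2 : orderOf y ∣ 2 ^ n := hn ▸ Subgroup.orderOf_dvd_natCard Q hy
    have hy1 : y = 1 := orderOf_eq_one_iff.1 (Nat.eq_one_of_dvd_coprimes
      (Nat.Coprime.pow_right n (Nat.coprime_two_right.2 ho)) (orderOf_dvd_of_pow_eq_one h1) h2)
    refine hyb.symm.trans ?_
    simp [hy1]
  have hall : ∀ q : Ω, f q = q := fun q => by
    by_cases hq : q = a
    · rw [hq, hfa]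
    · obtain ⟨⟨x, hx⟩, hxe, -⟩ := RankOne.Setup.regular h hpne hq
      rw [← hxe, hf', hfix x hx, hp]
  refine MulEquiv.ext fun g => FaithfulSMul.eq_of_smul_eq_smul (α := Ω) fun q => ?_
  show α g • q = g • q
  conv_rhs => rw [← hall (g • q), hf', hall q]

/-- A rank one set-up gives the facts. -/
theorem of_setup {q : ℕ} (h : Cfsg.IsRankOneSetup L Ω a t Q)
    (h2 : ∃ x y : L, x ≠ 1 ∧ y ≠ 1 ∧ x ≠ y ∧ x * x = 1 ∧ y * y = 1 ∧ x * y = y * x)
    (hQ : IsPGroup 2 ↥Q) (hs : IsSimpleGroup L) (hz : Subgroup.center L = ⊥)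
    (hS : ∀ P : Sylow 2 L, SylowFacts ↥(P : Subgroup L) q) : GroupFacts L q := by
  haveI : Fact (Nat.Prime 2) := ⟨Nat.prime_two⟩
  have hfix : ∀ (P : Sylow 2 L) (g : L), (∀ x, x ∈ P ↔ g⁻¹ * x * g ∈ Q) →
      ∀ x ∈ P, x • (g • a) = g • a := fun P g hg x hx => by
    have h1 : (g⁻¹ * x * g) • a = a := h.le ((hg x).1 hx)
    rwa [mul_smul, mul_smul, inv_smul_eq_iff] at h1
  have hnorm : ∀ (P : Sylow 2 L) (g : L), (∀ x, x ∈ P ↔ g⁻¹ * x * g ∈ Q) →
      ∀ c : L, c • (g • a) = g • a → c ∈ normalizer ((P : Subgroup L) : Set L) := fun P g hg c hc => by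
    have hc' : (g⁻¹ * c * g) ∈ stabilizer L a := by
      rw [MulAction.mem_stabilizer_iff, mul_smul, mul_smul, hc, inv_smul_smul]
    refine mem_normalizer_iff.2 fun x => ?_
    show x ∈ P ↔ c * x * c⁻¹ ∈ P
    rw [hg, hg]
    refine ⟨fun hx => ?_, fun hx => ?_⟩
    · have := h.conj_mem _ hc' _ hx
      rwa [show g⁻¹ * c * g * (g⁻¹ * x * g) * (g⁻¹ * c * g)⁻¹ = g⁻¹ * (c * x * c⁻¹) * g by group]
        at this
    · have := RankOne.Setup.conj_mem_inv h hc' hx
      rwa [show (g⁻¹ * c * g)⁻¹ * (g⁻¹ * (c * x * c⁻¹) * g) * (g⁻¹ * c * g) = g⁻¹ * x * g by group]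
        at this
  obtain ⟨P₀, hP₀⟩ := exists_sylow_eq h hQ
  refine ⟨hs, hz, hS, fun x hx => ?_, fun P P' x hx1 hxx hxP hxP' => ?_,
    fun P x hx y hy hx1 hxx hy1 hyy => ?_, fun P α ho hα => ?_⟩
  · have hx1 : x ≠ 1 := fun e => by rw [e, orderOf_one] at hx; omega
    have hxx : x * x = 1 := by rw [← pow_two, ← hx, pow_orderOf_eq_one]
    obtain ⟨p, hp⟩ := RankOne.Setup.exists_fixed h hx1 hxx
    obtain ⟨g, hg⟩ := RankOne.Setup.exists_smul_a h p
    have hgP : ∀ z : L, z ∈ (g • P₀ : Sylow 2 L) ↔ g⁻¹ * z * g ∈ Q := fun z => by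
      show z ∈ MulAut.conj g • (P₀ : Subgroup L) ↔ _
      rw [Subgroup.mem_pointwise_smul_iff_inv_smul_mem, ← hP₀]
      simp [MulAut.smul_def, mul_assoc]
    have hII : g⁻¹ * x * g ∈ Cfsg.involutionsIn (stabilizer L a : Set L) := by
      have := RankOne.Setup.conj_mem_ii h (g := g⁻¹) hx1 hxx hp (by rw [← hg, inv_smul_smul])
      rwa [inv_inv] at this
    refine ⟨g • P₀, fun z hz => mem_centralizer_singleton_iff.2 ?_, fun c hc => ?_⟩
    · have h1 := RankOne.Setup.commute_ii h h2 hII ((hgP z).1 hz)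
      calc z * x = g * (g⁻¹ * z * g * (g⁻¹ * x * g)) * g⁻¹ := by group
        _ = g * (g⁻¹ * x * g * (g⁻¹ * z * g)) * g⁻¹ := by rw [h1]
        _ = x * z := by group
    · refine hnorm _ g hgP c ?_
      rw [hg]
      refine RankOne.Setup.fixed_unique h hx1 hxx ?_ hp
      rw [← mul_smul, ← mem_centralizer_singleton_iff.1 hc, mul_smul, hp]
  · obtain ⟨g, hg⟩ := exists_conj_kernel h hQ P
    obtain ⟨g', hg'⟩ := exists_conj_kernel h hQ P'
    have he := RankOne.Setup.fixed_unique h hx1 hxx (hfix P g hg x hxP) (hfix P' g' hg' x hxP')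
    refine Sylow.ext (SetLike.ext fun z => ?_)
    show z ∈ P ↔ z ∈ P'
    rw [hg, hg']
    have hc : g'⁻¹ * g ∈ stabilizer L a := by
      rw [MulAction.mem_stabilizer_iff, mul_smul, he, inv_smul_smul]
    refine ⟨fun hz => ?_, fun hz => ?_⟩
    · have := h.conj_mem _ hc _ hz
      rwa [show g'⁻¹ * g * (g⁻¹ * z * g) * (g'⁻¹ * g)⁻¹ = g'⁻¹ * z * g' by group] at this
    · have := RankOne.Setup.conj_mem_inv h hc hz
      rwa [show (g'⁻¹ * g)⁻¹ * (g'⁻¹ * z * g') * (g'⁻¹ * g) = g⁻¹ * z * g by group] at this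
  · obtain ⟨g, hg⟩ := exists_conj_kernel h hQ P
    have hII : ∀ z ∈ P, z ≠ 1 → z * z = 1 → g⁻¹ * z * g ∈ Cfsg.involutionsIn (stabilizer L a : Set L) := by
      intro z hzP hz1 hzz
      refine ⟨h.le ((hg z).1 hzP), fun e => hz1 ?_, ?_⟩
      · calc z = g * (g⁻¹ * z * g) * g⁻¹ := by group
          _ = 1 := by rw [e]; group
      · calc g⁻¹ * z * g * (g⁻¹ * z * g) = g⁻¹ * (z * z) * g := by group
          _ = 1 := by rw [hzz]; group
    obtain ⟨k, hk, hke⟩ := RankOne.Setup.exists_conj_kk h (hII x hx hx1 hxx) (hII y hy hy1 hyy)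
    refine ⟨g * k⁻¹ * g⁻¹, hnorm P g hg _ ?_, ?_, ?_⟩
    · have h1 : k⁻¹ • a = a := inv_smul_eq_iff.2 hk.1.1.symm
      rw [mul_smul, mul_smul, inv_smul_smul, h1]
    · rw [← MulAut.conj_apply, MulEquiv.orderOf_eq, orderOf_inv]
      exact h.odd_card.of_dvd_nat (Subgroup.orderOf_dvd_natCard _ hk.1)
    · calc g * k⁻¹ * g⁻¹ * x * (g * k⁻¹ * g⁻¹)⁻¹ = g * (k⁻¹ * (g⁻¹ * x * g) * k) * g⁻¹ := by group
        _ = y := by rw [hke]; group
  · obtain ⟨g, hg⟩ := exists_conj_kernel h hQ P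
    have key := aut_eq_one_of_setup h hQ (α := (MulAut.conj g)⁻¹ * α * MulAut.conj g) (by
        rwa [show orderOf ((MulAut.conj g)⁻¹ * α * MulAut.conj g) = orderOf α by
          conv_rhs => rw [← MulEquiv.orderOf_eq (MulAut.conj (MulAut.conj g)⁻¹) α, MulAut.conj_apply,
            inv_inv]])
      (fun z hz => by
        have hzP : g * z * g⁻¹ ∈ P := (hg _).2 (by simpa [mul_assoc] using hz)
        rw [MulAut.mul_apply, MulAut.mul_apply, MulAut.conj_apply, hα _ hzP, MulAut.conj_inv_apply]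
        group)
    rw [mul_assoc, inv_mul_eq_one] at key
    exact mul_right_cancel (key.symm.trans (one_mul _).symm)

end setup

namespace GroupFacts

variable {L : Type u} [Group L] [Finite L] {q : ℕ}

/-- An odd automorphism fixing the involutions and one more element of a Sylow 2-subgroup is
trivial. -/
theorem odd_fix (h : GroupFacts L q) (Q : Sylow 2 L) {α : MulAut L} (ho : Odd (orderOf α))
    (hz : ∀ z ∈ Q, z * z = 1 → α z = z) {x : L} (hx : x ∈ Q) (hxx : x * x ≠ 1) (hxf : α x = x) :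
    α = 1 := by
  haveI : Fact (Nat.Prime 2) := ⟨Nat.prime_two⟩
  have hsq : x * x * (x * x) = 1 := by
    have h1 := ((h.sylow Q).omega _).2 ((h.sylow Q).sq_mem ⟨x, hx⟩)
    exact congrArg Subtype.val h1
  have hxxQ : x * x ∈ Q := mul_mem hx hx
  obtain ⟨R, hR⟩ := (Q.2.map α.toMonoidHom).exists_le_sylow
  have hRQ : R = Q := (h.uniq Q R (x * x) hxx hsq hxxQ
    (hR ⟨x * x, hxxQ, by show α (x * x) = x * x; rw [map_mul, hxf]⟩)).symm
  have hmem : ∀ z ∈ Q, α z ∈ Q := fun z hzQ => by rw [← hRQ]; exact hR ⟨z, hzQ, rfl⟩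
  let f : ↥(Q : Subgroup L) →* ↥(Q : Subgroup L) :=
    (α.toMonoidHom.comp (Q : Subgroup L).subtype).codRestrict _ fun z => hmem z.1 z.2
  have hf : Function.Injective f := fun z z' e => Subtype.ext (α.injective (congrArg Subtype.val e))
  let σ : MulAut ↥(Q : Subgroup L) := MulEquiv.ofBijective f (Finite.injective_iff_bijective.1 hf)
  have hpow : ∀ (k : ℕ) (z : ↥(Q : Subgroup L)), (((σ ^ k) z : ↥(Q : Subgroup L)) : L) = (α ^ k) z :=
    fun k => by
    induction k with
    | zero => intro z; rfl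
    | succ k ih =>
      intro z
      rw [pow_succ', MulAut.mul_apply, pow_succ', MulAut.mul_apply, ← ih]
      rfl
  have hσ : σ = 1 := (h.sylow Q).odd_fix σ
    (ho.of_dvd_nat (orderOf_dvd_of_pow_eq_one (MulEquiv.ext fun z => Subtype.ext (by
      rw [hpow, pow_orderOf_eq_one]; rfl))))
    (fun z hzc => Subtype.ext (hz z.1 z.2 (congrArg Subtype.val (((h.sylow Q).omega z).2 hzc))))
    ⟨x, hx⟩ (fun hc => hxx (congrArg Subtype.val (((h.sylow Q).omega ⟨x, hx⟩).2 hc)))
    (Subtype.ext hxf)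
  refine h.aut_eq_one Q α ho fun z hzQ => ?_
  have := congrArg (fun s : MulAut ↥(Q : Subgroup L) => ((s ⟨z, hzQ⟩ : ↥(Q : Subgroup L)) : L)) hσ
  exact this

/-- The facts pass along isomorphisms. -/
theorem congr {L' : Type v} [Group L'] (h : GroupFacts L q) (e : L ≃* L') : GroupFacts L' q := by
  haveI : Fact (Nat.Prime 2) := ⟨Nat.prime_two⟩
  haveI : Finite L' := Finite.of_equiv L e.toEquiv
  haveI := h.simple
  haveI : Nontrivial L' := e.injective.nontrivial
  have hS : ∀ Q : Sylow 2 L', ∃ P : Sylow 2 L, ∀ x : L, x ∈ P ↔ e x ∈ Q := fun Q =>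
    ⟨Q.comapOfInjective e.toMonoidHom e.injective (by
      rw [MonoidHom.range_eq_top.2 e.surjective]; exact le_top), fun x => Iff.rfl⟩
  have hS' : ∀ P : Sylow 2 L, ∃ Q : Sylow 2 L', ∀ x : L, x ∈ P ↔ e x ∈ Q := fun P =>
    ⟨P.comapOfInjective e.symm.toMonoidHom e.symm.injective (by
      rw [MonoidHom.range_eq_top.2 e.symm.surjective]; exact le_top), fun x => by
        show x ∈ P ↔ e.symm (e x) ∈ P
        rw [e.symm_apply_apply]⟩
  have hnorm : ∀ (P : Sylow 2 L) (Q : Sylow 2 L'), (∀ x : L, x ∈ P ↔ e x ∈ Q) → ∀ c : L,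
      (c ∈ normalizer ((P : Subgroup L) : Set L) ↔ e c ∈ normalizer ((Q : Subgroup L') : Set L')) :=
    fun P Q hPQ c => by
    rw [mem_normalizer_iff, mem_normalizer_iff]
    refine ⟨fun hc y => ?_, fun hc x => ?_⟩
    · obtain ⟨x, rfl⟩ := e.surjective y
      show e x ∈ Q ↔ e c * e x * (e c)⁻¹ ∈ Q
      rw [← map_inv, ← map_mul, ← map_mul, ← hPQ, ← hPQ]
      exact hc x
    · show x ∈ P ↔ c * x * c⁻¹ ∈ P
      rw [hPQ, hPQ, map_mul, map_mul, map_inv]
      exact hc (e x)
  refine ⟨IsSimpleGroup.isSimpleGroup_of_surjective e.toMonoidHom e.surjective, ?_, fun Q => ?_,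
    fun x hx => ?_, fun Q Q' x hx1 hxx hxQ hxQ' => ?_,
    fun Q x hx y hy hx1 hxx hy1 hyy => ?_, fun Q α ho hα => ?_⟩
  · refine (Subgroup.eq_bot_iff_forall _).2 fun z hz => ?_
    have h1 : e.symm z ∈ Subgroup.center L := mem_center_iff.2 fun g => e.injective (by
      rw [map_mul, map_mul, e.apply_symm_apply]
      exact mem_center_iff.1 hz _)
    rw [h.center, mem_bot] at h1
    rw [← e.apply_symm_apply z, h1, map_one]
  · obtain ⟨P, hP⟩ := hS Q
    refine (h.sylow P).congr (MulEquiv.mk' ((e.toEquiv.subtypeEquiv fun x => hP x)) ?_)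
    exact fun a b => Subtype.ext (map_mul e a.1 b.1)
  · obtain ⟨P, hP1, hP2⟩ := h.cent (e.symm x) (by rw [MulEquiv.orderOf_eq, hx])
    obtain ⟨Q, hQ⟩ := hS' P
    refine ⟨Q, fun y hy => ?_, fun c hc => ?_⟩
    · have h1 := mem_centralizer_singleton_iff.1 (hP1 (show e.symm y ∈ P by
        rw [hQ, e.apply_symm_apply]; exact hy))
      refine mem_centralizer_singleton_iff.2 (e.symm.injective ?_)
      rw [map_mul, map_mul, h1]
    · have h1 : e.symm c ∈ centralizer ({e.symm x} : Set L) := mem_centralizer_singleton_iff.2 (by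
        rw [← map_mul, ← map_mul, mem_centralizer_singleton_iff.1 hc])
      rw [← e.apply_symm_apply c]
      exact (hnorm P Q hQ _).1 (hP2 h1)
  · obtain ⟨P, hP⟩ := hS Q
    obtain ⟨P', hP'⟩ := hS Q'
    have he := h.uniq P P' (e.symm x) (fun hh => hx1 (by rw [← e.apply_symm_apply x, hh, map_one]))
      (by rw [← map_mul, hxx, map_one]) (by rw [hP, e.apply_symm_apply]; exact hxQ)
      (by rw [hP', e.apply_symm_apply]; exact hxQ')
    refine Sylow.ext (SetLike.ext fun y => ?_)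
    obtain ⟨z, rfl⟩ := e.surjective y
    show e z ∈ Q ↔ e z ∈ Q'
    rw [← hP, ← hP', he]
  · obtain ⟨P, hP⟩ := hS Q
    obtain ⟨k, hk, hko, hke⟩ := h.trans P (e.symm x) (by rw [hP, e.apply_symm_apply]; exact hx)
      (e.symm y) (by rw [hP, e.apply_symm_apply]; exact hy)
      (fun hh => hx1 (by rw [← e.apply_symm_apply x, hh, map_one]))
      (by rw [← map_mul, hxx, map_one])
      (fun hh => hy1 (by rw [← e.apply_symm_apply y, hh, map_one]))
      (by rw [← map_mul, hyy, map_one])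
    refine ⟨e k, (hnorm P Q hP k).1 hk, by rwa [MulEquiv.orderOf_eq], ?_⟩
    rw [← e.apply_symm_apply x, ← map_inv, ← map_mul, ← map_mul, hke, e.apply_symm_apply]
  · obtain ⟨P, hP⟩ := hS Q
    have key := h.aut_eq_one P (MulAut.congr e.symm α)
      (by rwa [MulEquiv.orderOf_eq (MulAut.congr e.symm) α]) fun z hz => by
        show e.symm (α (e z)) = z
        rw [hα _ ((hP z).1 hz), e.symm_apply_apply]
    exact (MulAut.congr e.symm).injective (key.trans (map_one _).symm)

end GroupFacts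

end Cfsg.Agent.Goldschmidt.Facts
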