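import Cfsg.Agent.EqLemmas

/-!
# The facts used about the Sylow 2-subgroup of a Bender group (owner: helper72)

* `SylowFacts P q` : `P` behaves like a Sylow 2-subgroup of `Sz(q)` or `PSU₃(q)`
* `SylowFacts.congr` : transport along an isomorphism
-/

set_option autoImplicit false

namespace Cfsg.Agent.Goldschmidt.Facts

open Subgroup
open scoped commutatorElement

/-- A non-abelian 2-group whose squares-one elements form the centre, with the automorphism
properties of the Sylow 2-subgroups of `Sz(q)` and `PSU₃(q)`. -/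
structure SylowFacts (P : Type*) [Group P] (q : ℕ) : Prop where
  pow : ∃ n, 2 ≤ n ∧ q = 2 ^ n
  card : Nat.card P = q ^ 2 ∨ Nat.card P = q ^ 3
  omega : ∀ x : P, x * x = 1 ↔ x ∈ center P
  card_center : Nat.card ↥(center P) = q
  sq_mem : ∀ x : P, x * x ∈ center P
  comm_mem : ∀ x y : P, ⁅x, y⁆ ∈ center P
  sq_surj : ∀ z ∈ center P, ∃ x : P, x * x = z
  comm_half : ∀ u : P, u ∉ center P → q ≤ 2 * Nat.card ↥{c : P | ∃ r : P, c = ⁅r, u⁆}
  odd_fix : ∀ σ : MulAut P, Odd (orderOf σ) → (∀ z ∈ center P, σ z = z) →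
    ∀ x : P, x ∉ center P → σ x = x → σ = 1
  sq_of_moved : ∀ σ : MulAut P, (∃ k : ℕ, σ ^ 2 ^ k = 1) → (∀ z ∈ center P, σ z = z) →
    (∀ x : P, x⁻¹ * σ x ∈ center P) ∨
      ∀ z ∈ center P, ∃ y ∈ closure (Set.range fun x : P => x⁻¹ * σ x), y * y = z

namespace SylowFacts

variable {P Q : Type*} [Group P] [Group Q] {q : ℕ}

theorem mem_center_iff (e : P ≃* Q) (x : P) : e x ∈ center Q ↔ x ∈ center P := by
  rw [Subgroup.mem_center_iff, Subgroup.mem_center_iff]
  refine ⟨fun h y => e.injective (by rw [map_mul, map_mul, h]), fun h y => ?_⟩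
  obtain ⟨y, rfl⟩ := e.surjective y
  rw [← map_mul, ← map_mul, h]

/-- The facts pass along isomorphisms. -/
theorem congr (h : SylowFacts P q) (e : P ≃* Q) : SylowFacts Q q := by
  have hσ : ∀ (σ : MulAut Q) (x : P), (MulAut.congr e.symm σ) x = e.symm (σ (e x)) := fun _ _ => rfl
  have hfix : ∀ σ : MulAut Q, (∀ z ∈ center Q, σ z = z) →
      ∀ z ∈ center P, (MulAut.congr e.symm σ) z = z := fun σ hz z hzP => by
    rw [hσ, hz _ ((mem_center_iff e z).2 hzP), e.symm_apply_apply]
  refine ⟨h.pow, ?_, fun y => ?_, ?_, fun y => ?_, fun y y' => ?_, fun z hz => ?_, fun u hu => ?_,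
    fun σ ho hz x hx hxf => ?_, fun σ hk hz => ?_⟩
  · rw [← Nat.card_congr e.toEquiv]
    exact h.card
  · obtain ⟨x, rfl⟩ := e.surjective y
    rw [mem_center_iff e, ← h.omega, ← map_mul, MulEquiv.map_eq_one_iff]
  · rw [← h.card_center]
    exact Nat.card_congr ((e.toEquiv.subtypeEquiv fun x => (mem_center_iff e x).symm).symm)
  · obtain ⟨x, rfl⟩ := e.surjective y
    rw [← map_mul, mem_center_iff e]
    exact h.sq_mem x
  · obtain ⟨x, rfl⟩ := e.surjective y
    obtain ⟨x', rfl⟩ := e.surjective y'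
    rw [← map_commutatorElement, mem_center_iff e]
    exact h.comm_mem x x'
  · obtain ⟨z, rfl⟩ := e.surjective z
    obtain ⟨x, hx⟩ := h.sq_surj z ((mem_center_iff e z).1 hz)
    exact ⟨e x, by rw [← map_mul, hx]⟩
  · obtain ⟨u, rfl⟩ := e.surjective u
    refine (h.comm_half u fun hc => hu ((mem_center_iff e u).2 hc)).trans (le_of_eq ?_)
    congr 1
    refine Nat.card_congr (e.toEquiv.subtypeEquiv fun c => ?_)
    simp only [Set.mem_setOf_eq, MulEquiv.toEquiv_eq_coe, EquivLike.coe_coe]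
    refine ⟨fun ⟨r, hr⟩ => ⟨e r, by rw [hr, map_commutatorElement]⟩, fun ⟨r, hr⟩ => ⟨e.symm r, ?_⟩⟩
    apply e.injective
    rw [hr, map_commutatorElement, e.apply_symm_apply]
  · have h1 := h.odd_fix (MulAut.congr e.symm σ)
      (by rwa [MulEquiv.orderOf_eq (MulAut.congr e.symm) σ]) (hfix σ hz) (e.symm x)
      (fun hc => hx (by rw [← e.apply_symm_apply x]; exact (mem_center_iff e _).2 hc))
      (by rw [hσ, e.apply_symm_apply, hxf])
    exact (MulAut.congr e.symm).injective (h1.trans (map_one _).symm)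
  · obtain ⟨k, hk⟩ := hk
    rcases h.sq_of_moved (MulAut.congr e.symm σ) ⟨k, by rw [← map_pow, hk, map_one]⟩ (hfix σ hz) with
      h1 | h1
    · refine Or.inl fun y => ?_
      have := (mem_center_iff e _).2 (h1 (e.symm y))
      rwa [hσ, map_mul, map_inv, e.apply_symm_apply, e.apply_symm_apply] at this
    · refine Or.inr fun z hzc => ?_
      obtain ⟨z, rfl⟩ := e.surjective z
      obtain ⟨y, hy, hyy⟩ := h1 z ((mem_center_iff e z).1 hzc)
      refine ⟨e y, ?_, by rw [← map_mul, hyy]⟩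
      have hle : closure (Set.range fun x : P => x⁻¹ * (MulAut.congr e.symm σ) x) ≤
          (closure (Set.range fun y : Q => y⁻¹ * σ y)).comap e.toMonoidHom := by
        rw [closure_le]
        rintro _ ⟨x, rfl⟩
        refine subset_closure ⟨e x, ?_⟩
        simp [hσ]
      exact hle hy

end SylowFacts

end Cfsg.Agent.Goldschmidt.Facts
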