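import Cfsg.Agent.Lib.Goldschmidt.Facts.Unitary
import Cfsg.Agent.Lib.SuzukiRankOne.Coords

/-!
# The torus of a Bender group (owner: helper72)

* `torus_of_setup` : an element of order `q - 1` normalising a Sylow 2-subgroup, regular on its
  involutions and without fixed points on it
* `torus_psu` : the same for `PSU₃(2ⁿ)`
-/

set_option autoImplicit false
set_option linter.unusedSectionVars false
set_option linter.style.haveILetI false

namespace Cfsg.Agent.Goldschmidt.Facts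

open Subgroup MulAction

universe u v

variable {L : Type u} {Ω : Type v} [Group L] [Finite L] [MulAction L Ω] [FaithfulSMul L Ω] {a : Ω}
  {t : L} {Q : Subgroup L}

/-- The torus. -/
theorem torus_of_setup {q : ℕ} (h : Cfsg.IsRankOneSetup L Ω a t Q)
    (h2 : SuzukiRankOne.TwoInvolutions L) (hQ : IsPGroup 2 ↥Q)
    (hS : ∀ P : Sylow 2 L, SylowFacts ↥(P : Subgroup L) q) (P : Sylow 2 L) :
    ∃ k ∈ normalizer ((P : Subgroup L) : Set L), orderOf k = q - 1 ∧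
      (∀ x ∈ P, ∀ y ∈ P, x ≠ 1 → x * x = 1 → y ≠ 1 → y * y = 1 →
        ∃ i : ℕ, k ^ i * x * (k ^ i)⁻¹ = y) ∧
      ∀ (i : ℕ), ∀ y ∈ P, k ^ i * y = y * k ^ i → k ^ i ≠ 1 → y = 1 := by
  classical
  haveI : Fact (Nat.Prime 2) := ⟨Nat.prime_two⟩
  obtain ⟨n, hn, -, ⟨C⟩⟩ := SuzukiRankOne.exists_coords h h2
  letI := Fintype.ofFinite (GaloisField 2 n)
  obtain ⟨g, hg⟩ := exists_conj_kernel h hQ P
  have hzQ : ∀ x, C.z x ∈ Q := fun x => by
    by_cases h1 : C.z x = 1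
    · rw [h1]; exact one_mem Q
    · exact RankOne.Setup.mem_Q_of_ii h ⟨(C.z_mem x).1, h1, (C.z_mem x).2⟩
  have hzP : ∀ x, g * C.z x * g⁻¹ ∈ P := fun x => by
    rw [hg, show g⁻¹ * (g * C.z x * g⁻¹) * g = C.z x by group]
    exact hzQ x
  have hsurj : ∀ y ∈ P, y * y = 1 → ∃ x, g * C.z x * g⁻¹ = y := fun y hy hyy => by
    obtain ⟨x, hx⟩ := C.z_surj (g⁻¹ * y * g) (h.le ((hg y).1 hy)) (by
      calc g⁻¹ * y * g * (g⁻¹ * y * g) = g⁻¹ * (y * y) * g := by group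
        _ = 1 := by rw [hyy]; group)
    exact ⟨x, by rw [hx]; group⟩
  have hq : Nat.card (GaloisField 2 n) = q := by
    rw [← (hS P).card_center]
    have hmem : ∀ x, (⟨g * C.z x * g⁻¹, hzP x⟩ : ↥(P : Subgroup L)) ∈ center ↥(P : Subgroup L) :=
      fun x => ((hS P).omega _).1 (Subtype.ext (by
        show g * C.z x * g⁻¹ * (g * C.z x * g⁻¹) = 1
        calc g * C.z x * g⁻¹ * (g * C.z x * g⁻¹) = g * (C.z x * C.z x) * g⁻¹ := by group
          _ = 1 := by rw [(C.z_mem x).2]; group))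
    refine Nat.card_congr (Equiv.ofBijective (fun x => (⟨_, hmem x⟩ : ↥(center ↥(P : Subgroup L))))
      ⟨fun x x' e => ?_, fun y => ?_⟩)
    · have e1 : g * C.z x * g⁻¹ = g * C.z x' * g⁻¹ :=
        congrArg (fun s : ↥(center ↥(P : Subgroup L)) => (s.1 : L)) e
      exact C.z_inj (mul_left_cancel (mul_right_cancel e1))
    · obtain ⟨x, hx⟩ := hsurj y.1.1 y.1.2 (congrArg Subtype.val (((hS P).omega y.1).2 y.2))
      exact ⟨x, Subtype.ext (Subtype.ext hx)⟩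
  obtain ⟨w, hw⟩ := IsCyclic.exists_generator (α := (GaloisField 2 n)ˣ)
  have hord : orderOf (g * C.k w * g⁻¹) = q - 1 := by
    rw [← MulAut.conj_apply, MulEquiv.orderOf_eq, orderOf_injective _ C.k_inj,
      orderOf_eq_card_of_forall_mem_zpowers hw, Nat.card_units, hq]
  have hpow : ∀ i : ℕ, (g * C.k w * g⁻¹) ^ i = g * C.k (w ^ i) * g⁻¹ := fun i => by
    rw [conj_pow, map_pow]
  refine ⟨g * C.k w * g⁻¹, mem_normalizer_iff.2 fun y => ?_, hord,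
    fun x hx y hy hx1 hxx hy1 hyy => ?_, fun i y hy hc hne => ?_⟩
  · have hk : C.k w ∈ stabilizer L a := (C.k_mem w).1.1
    show y ∈ P ↔ g * C.k w * g⁻¹ * y * (g * C.k w * g⁻¹)⁻¹ ∈ P
    rw [hg, hg, show g⁻¹ * (g * C.k w * g⁻¹ * y * (g * C.k w * g⁻¹)⁻¹) * g =
      C.k w * (g⁻¹ * y * g) * (C.k w)⁻¹ by group]
    refine ⟨h.conj_mem _ hk _, fun hy => ?_⟩
    have := RankOne.Setup.conj_mem_inv h hk hy
    rwa [show (C.k w)⁻¹ * (C.k w * (g⁻¹ * y * g) * (C.k w)⁻¹) * C.k w = g⁻¹ * y * g by group] at this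
  · obtain ⟨x', rfl⟩ := hsurj x hx hxx
    obtain ⟨y', rfl⟩ := hsurj y hy hyy
    have hz0 : C.z 0 = 1 := by
      have := C.z_add 0 0
      rw [add_zero] at this
      exact left_eq_mul.1 this
    have hx0 : x' ≠ 0 := fun e => hx1 (by rw [e, hz0]; group)
    have hy0 : y' ≠ 0 := fun e => hy1 (by rw [e, hz0]; group)
    haveI : CharP (GaloisField 2 n) 2 := inferInstance
    obtain ⟨b, hb⟩ : ∃ b : GaloisField 2 n, b * b = y' / x' := by
      obtain ⟨b, hb⟩ := FiniteField.isSquare_of_char_two (ringChar.eq _ 2) (y' / x')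
      exact ⟨b, hb.symm⟩
    have hb0 : b ≠ 0 := fun e => div_ne_zero hy0 hx0 (by rw [← hb, e, mul_zero])
    obtain ⟨i, hi⟩ := (mem_powers_iff_mem_zpowers.2 (hw (Units.mk0 b hb0)))
    refine ⟨i, ?_⟩
    simp only at hi
    rw [hpow, hi, show g * C.k (Units.mk0 b hb0) * g⁻¹ * (g * C.z x' * g⁻¹) *
      (g * C.k (Units.mk0 b hb0) * g⁻¹)⁻¹ =
      g * (C.k (Units.mk0 b hb0) * C.z x' * (C.k (Units.mk0 b hb0))⁻¹) * g⁻¹ by group, C.k_conj,
      Units.val_mk0, hb, div_mul_cancel₀ _ hx0]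
  · rw [hpow] at hc hne
    have h1 := RankOne.Setup.kk_fpf h (C.k_mem (w ^ i))
      (fun e => hne (by rw [e]; group)) ((hg y).1 hy) (by
        calc C.k (w ^ i) * (g⁻¹ * y * g) = g⁻¹ * (g * C.k (w ^ i) * g⁻¹ * y) * g := by group
          _ = g⁻¹ * (y * (g * C.k (w ^ i) * g⁻¹)) * g := by rw [hc]
          _ = g⁻¹ * y * g * C.k (w ^ i) := by group)
    calc y = g * (g⁻¹ * y * g) * g⁻¹ := by group
      _ = 1 := by rw [h1]; group

/-- The torus of `PSU₃(2ⁿ)`. -/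
theorem torus_psu {F : Type} [Field F] [Fintype F] {n : ℕ} (hn : 2 ≤ n)
    (hF : Fintype.card F = (2 ^ n) ^ 2) (P : Sylow 2 (Cfsg.PSU 3 F (2 ^ n))) :
    ∃ k ∈ normalizer ((P : Subgroup (Cfsg.PSU 3 F (2 ^ n))) : Set (Cfsg.PSU 3 F (2 ^ n))),
      orderOf k = 2 ^ n - 1 ∧
      (∀ x ∈ P, ∀ y ∈ P, x ≠ 1 → x * x = 1 → y ≠ 1 → y * y = 1 →
        ∃ i : ℕ, k ^ i * x * (k ^ i)⁻¹ = y) ∧
      ∀ (i : ℕ), ∀ y ∈ P, k ^ i * y = y * k ^ i → k ^ i ≠ 1 → y = 1 := by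
  classical
  obtain ⟨Ω, _, _, a, t, Q, h, h2, hQ, -, -, -⟩ := SuzukiRankOne.unitaryModel F n hn hF
  exact torus_of_setup h h2 hQ (groupFacts_psu hn hF).sylow P

end Cfsg.Agent.Goldschmidt.Facts
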