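import Cfsg.Agent.Lib.Goldschmidt.Facts.UnitarySylow

/-!
# Automorphisms of the Sylow 2-subgroup of `PSU₃(2ⁿ)` on its centre (owner: helper72)

* `aut_center_semilinear` : an automorphism acts on the centre, identified with the subfield of
  order `q`, as `c ↦ μ c^(2^i)`
* `exists_center_scalar` : every non-zero `μ` of the subfield occurs
-/

set_option autoImplicit false

namespace Cfsg.Agent.Goldschmidt.Facts

open Cfsg.Agent.Unitary Subgroup

variable {F : Type*} [Field F] [Fintype F] {q : ℕ} {hF : Fintype.card F = q ^ 2} {h2 : (2 : F) = 0}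

/-- Automorphisms are semilinear on the centre. -/
theorem aut_center_semilinear {n : ℕ} (hn : 1 ≤ n) (hq : q = 2 ^ n) (σ : MulAut (sylThree hF h2)) :
    ∃ μ : F, μ ≠ 0 ∧ μ ^ q = μ ∧ ∃ i : ℕ, ∀ z ∈ center (sylThree hF h2),
      coordB (σ z) = μ * coordB z ^ 2 ^ i := by
  obtain ⟨l, hl, i, -, hp⟩ := perm_semilinear hn hq σ
  refine ⟨l ^ (q + 1), pow_ne_zero _ hl, pow_q_succ_fixed hF l, i, fun z hz => ?_⟩
  obtain ⟨a, ha⟩ := exists_norm_eq hF (fixed_coordB ((Unitary.mem_center_iff z).1 hz))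
  have hg : z = liftA a * liftA a := ext'
    (by rw [(Unitary.mem_center_iff z).1 hz, (coord_sq _).1])
    (by rw [(coord_sq _).2, coordA_liftA, ha])
  rw [hg, map_mul, (coord_sq _).2, (coord_sq _).2, ← perm_apply, coordA_liftA, hp, mul_pow,
    ← pow_mul, ← pow_mul, mul_comm (q + 1)]

/-- Scalars of the subfield act on the centre. -/
theorem exists_center_scalar {n : ℕ} (hq : q = 2 ^ n) {μ : F} (hμ : μ ≠ 0) (hμq : μ ^ q = μ) :
    ∃ σ : MulAut (sylThree hF h2), ∀ z ∈ center (sylThree hF h2), coordB (σ z) = μ * coordB z := by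
  obtain ⟨l, hl⟩ := exists_norm_eq hF hμq
  have hl0 : l ≠ 0 := fun h => hμ (by rw [← hl, h, zero_pow (Nat.succ_ne_zero q)])
  obtain ⟨σ, hσ⟩ := exists_aut (hF := hF) (h2 := h2) hq hl0 0
  refine ⟨σ, fun z hz => ?_⟩
  obtain ⟨a, ha⟩ := exists_norm_eq hF (fixed_coordB ((Unitary.mem_center_iff z).1 hz))
  have hg : z = liftA a * liftA a := ext'
    (by rw [(Unitary.mem_center_iff z).1 hz, (coord_sq _).1])
    (by rw [(coord_sq _).2, coordA_liftA, ha])
  rw [hg, map_mul, (coord_sq _).2, (coord_sq _).2, hσ, coordA_liftA, pow_zero, pow_one, mul_pow, hl]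

end Cfsg.Agent.Goldschmidt.Facts
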